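import Groth.Agent.Lib.SubRes8.Basic
import Groth.Agent.Lib.KInj.Filtered

/-! Filtered colimits of complexes: homology, and resolutions of diagrams by injectives. -/

set_option autoImplicit false
set_option linter.unusedSectionVars false
set_option linter.style.haveILetI false
set_option backward.isDefEq.respectTransparency false
set_option backward.isDefEq.respectTransparency.types false

universe w v u

open CategoryTheory CategoryTheory.Limits

namespace Groth.Agent.FiltPush9

variable {A : Type u} [Category.{v} A] [Abelian A] {J : Type w} [SmallCategory J]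

section Homology

variable [HasColimitsOfShape J A] [HasExactColimitsOfShape J A] {ι : Type*} (c : ComplexShape ι) (i : ι)

/-- Exact colimits commute with homology. -/
theorem preservesColimitsOfShape_homology :
    PreservesColimitsOfShape J (HomologicalComplex.homologyFunctor A c i) := ⟨fun {F} => by
  refine preservesColimit_of_preserves_colimit_cocone (colimit.isColimit F) ?_
  let ev : ι → (HomologicalComplex A c ⥤ A) := fun k => HomologicalComplex.eval A c k
  let nd : ∀ k l, F ⋙ ev k ⟶ F ⋙ ev l := fun k l =>
    { app := fun j => (F.obj j).d k l, naturality := fun a b g => ((F.map g).comm k l) }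
  let S : ShortComplex (J ⥤ A) := ShortComplex.mk (nd (c.prev i) i) (nd i (c.next i))
    (NatTrans.ext (funext fun j => (F.obj j).d_comp_d _ _ _))
  let e0 : ∀ k, colimit (F ⋙ ev k) ≅ (colimit F).X k := fun k => (preservesColimitIso (ev k) F).symm
  have he0 : ∀ k j, colimit.ι (F ⋙ ev k) j ≫ (e0 k).hom = (colimit.ι F j).f k := fun k j =>
    ι_preservesColimitIso_inv (ev k) F j
  have hd : ∀ k l, colimMap (nd k l) ≫ (e0 l).hom = (e0 k).hom ≫ (colimit F).d k l := fun k l => by
    refine colimit.hom_ext fun j => ?_
    rw [ι_colimMap_assoc, he0, reassoc_of% (he0 k j)]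
    exact ((colimit.ι F j).comm k l).symm
  let e : S.map colim ≅ (colimit F).sc i :=
    ShortComplex.isoMk (e0 _) (e0 _) (e0 _) (hd _ _).symm (hd _ _).symm
  let eH : colimit S.homology ≅ (colimit F).homology i :=
    (S.mapHomologyIso colim).symm ≪≫ ShortComplex.homologyMapIso e
  let evJ : J → ((J ⥤ A) ⥤ A) := fun j => (evaluation _ _).obj j
  let τ : ∀ j, evJ j ⟶ colim := fun j =>
    { app := fun G => colimit.ι G j, naturality := fun G G' f => (ι_colimMap f j).symm }
  let ψ : ∀ j, S.homology.obj j ≅ (F.obj j).homology i := fun j => (S.mapHomologyIso (evJ j)).symm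
  have hψ : ∀ {j j' : J} (g : j ⟶ j'), S.homology.map g ≫ (ψ j').hom =
      (ψ j).hom ≫ HomologicalComplex.homologyMap (F.map g) i := fun {j j'} g => by
    have h : S.homology.map g = ((evaluation J A).map g).app S.homology := rfl
    have hc : S.mapNatTrans ((evaluation J A).map g) =
        (HomologicalComplex.shortComplexFunctor A c i).map (F.map g) := by
      ext <;> rfl
    rw [h, NatTrans.app_homology]
    simp only [ψ, evJ, Iso.symm_hom, Category.assoc, Iso.hom_inv_id, Category.comp_id]
    rw [hc]
    rfl
  let ψ' : S.homology ≅ F ⋙ HomologicalComplex.homologyFunctor A c i := NatIso.ofComponents ψ hψ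
  have key : ∀ j, colimit.ι S.homology j ≫ eH.hom =
      (ψ j).hom ≫ HomologicalComplex.homologyMap (colimit.ι F j) i := fun j => by
    have h : colimit.ι S.homology j = (τ j).app S.homology := rfl
    have hc : S.mapNatTrans (τ j) ≫ e.hom =
        (HomologicalComplex.shortComplexFunctor A c i).map (colimit.ι F j) := by
      ext <;> exact he0 _ j
    rw [h, NatTrans.app_homology]
    simp only [eH, ψ, Iso.trans_hom, Iso.symm_hom, ShortComplex.homologyMapIso_hom, Category.assoc,
      Iso.hom_inv_id_assoc]
    congr 1
    rw [← ShortComplex.homologyMap_comp, hc]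
    rfl
  refine IsColimit.ofIsoColimit ((IsColimit.precomposeInvEquiv ψ' _).symm (colimit.isColimit S.homology))
    (Cocone.ext eH fun j => ?_)
  show (ψ'.inv.app j ≫ colimit.ι S.homology j) ≫ eH.hom = HomologicalComplex.homologyMap (colimit.ι F j) i
  rw [Category.assoc, key]
  exact Iso.inv_hom_id_assoc (ψ j) _⟩

end Homology

section Res

variable [IsGrothendieckAbelian.{w} A]

instance mono_sigma_map {T : Type w} {P Q : T → A} (f : ∀ t, P t ⟶ Q t) [∀ t, Mono (f t)] :
    Mono (Limits.Sigma.map f) := by
  haveI : ∀ X : Discrete T, Mono ((Discrete.natTrans (F := Discrete.functor P) (G := Discrete.functor Q)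
      fun t => f t.as).app X) := fun X => inferInstanceAs (Mono (f X.as))
  haveI : Mono (Discrete.natTrans (F := Discrete.functor P) (G := Discrete.functor Q) fun t => f t.as) :=
    NatTrans.mono_of_mono_app _
  exact (colim (J := Discrete T) (C := A)).map_mono _

end Res

section Res'

variable {A : Type u} [Category.{v} A] [Abelian A] [IsGrothendieckAbelian.{v} A] {J : Type v} [SmallCategory J]

theorem injective_eval (j : J) (G : J ⥤ A) [Injective G] : Injective (G.obj j) := by
  haveI : (evaluationLeftAdjoint A j).PreservesMonomorphisms := ⟨fun {X Y} f _ => by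
    haveI : ∀ t, Mono (((evaluationLeftAdjoint A j).map f).app t) := fun t => by
      change Mono (Sigma.desc fun h => f ≫ Sigma.ι (fun _ : j ⟶ t => Y) h)
      have e : (Sigma.desc fun h => f ≫ Sigma.ι (fun _ : j ⟶ t => Y) h) = Limits.Sigma.map fun _ => f :=
        Sigma.hom_ext _ _ fun h => by simp
      rw [e]
      infer_instance
    exact NatTrans.mono_of_mono_app _⟩
  exact Injective.injective_of_adjoint (evaluationAdjunctionRight A j) G

instance isGrothendieck_diag : IsGrothendieckAbelian.{v} (J ⥤ A) where
  ab5OfSize := ⟨fun K _ _ => inferInstance⟩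
  hasSeparator := HasSeparator.of_equivalence (C := Jᵒᵖᵒᵖ ⥤ A) (opOpEquivalence J).congrLeft

variable (C : J ⥤ CochainComplex A ℤ)

/-- A diagram of complexes as a complex of diagrams. -/
noncomputable def diagCx : CochainComplex (J ⥤ A) ℤ where
  X i := C ⋙ HomologicalComplex.eval A _ i
  d i k :=
    { app := fun j => (C.obj j).d i k
      naturality := fun a b g => (C.map g).comm i k }
  shape i k h := by ext j; exact (C.obj j).shape i k h
  d_comp_d' i k l _ _ := by ext j; exact (C.obj j).d_comp_d i k l

/-- Diagrams with uniformly bounded below cohomology have injective resolutions. -/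
theorem exists_injective_diagram (n : ℤ) (hC : ∀ j, (C.obj j).IsGE n) :
    ∃ (I : J ⥤ CochainComplex A ℤ) (φ : C ⟶ I), (∀ j, QuasiIso (φ.app j)) ∧
      (∀ j, (I.obj j).IsStrictlyGE n) ∧ ∀ j i, Injective ((I.obj j).X i) := by
  have hS : SubRes8.Setup (A := J ⥤ A) (fun _ => True) (fun X => Injective X) :=
    { iso := fun _ _ _ _ => trivial
      coker := fun _ _ _ _ _ => trivial
      ext := fun _ _ _ _ => trivial
      le := fun _ _ => trivial
      emb := fun Q' Q i hi _ => ⟨Injective.under Q, Injective.ι Q, inferInstance, mono_comp i _⟩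
      zero := ⟨_, isZero_zero _, (isZero_zero _).injective⟩ }
  haveI : (diagCx C).IsGE n := (CochainComplex.isGE_iff _ _).2 fun i hi => by
    rw [HomologicalComplex.exactAt_iff_isZero_homology]
    refine Functor.isZero _ fun j => ?_
    haveI := hC j
    exact (((CochainComplex.isGE_iff _ _).1 (hC j)) i hi).isZero_homology.of_iso
      (((diagCx C).sc i).mapHomologyIso ((evaluation J A).obj j)).symm
  obtain ⟨L, α, hL, hinj, hα⟩ := SubRes8.exists_resolution hS (diagCx C) n fun _ => trivial
  let φ : C ⟶ L.asFunctor :=
    { app := fun j =>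
        { f := fun i => (α.f i).app j
          comm' := fun i k _ => NatTrans.congr_app (α.comm i k) j }
      naturality := fun a b g => HomologicalComplex.hom_ext _ _ fun i => (α.f i).naturality g }
  refine ⟨L.asFunctor, φ, fun j => (HomologicalComplex.quasiIso_iff_evaluation α).1 hα j,
    fun j => (CochainComplex.isStrictlyGE_iff _ _).2 fun i hi => ?_, fun j i => ?_⟩
  · exact (evaluation J A).obj j |>.map_isZero (L.isZero_of_isStrictlyGE n i hi)
  · haveI := hinj i
    exact injective_eval j (L.X i)

end Res'

end Groth.Agent.FiltPush9
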