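import Groth.Agent.Lib.FiltPush9.Cx
import Groth.Agent.Lib.DPush9.Compute
import Groth.Agent.Lib.CohFound.RpushHc
import Groth.Agent.Lib.CohFound.AffMor
import Groth.Agent.S0800
import Groth.Agent.Lib.DPush.Affine
import Groth.Agent.Lib.InjMod.Scheme

/-! Derived direct images and filtered colimits of complexes. -/

set_option autoImplicit false
set_option linter.style.haveILetI false
set_option linter.unusedSectionVars false
set_option backward.isDefEq.respectTransparency false
set_option backward.isDefEq.respectTransparency.types false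
set_option maxHeartbeats 800000

universe u

open CategoryTheory CategoryTheory.Limits AlgebraicGeometry

namespace Groth.Agent.FiltPush9

attribute [local instance] HasDerivedCategory.standard

variable {X Y : Scheme.{u}} (f : X ⟶ Y) [QuasiCompact f] [QuasiSeparated f]
  {J : Type u} [SmallCategory J] [IsFiltered J]

local notation "Cx" => ComplexShape.up ℤ

theorem preservesColimitsOfShape_pushforward :
    PreservesColimitsOfShape J (Scheme.Modules.pushforward f) := by
  haveI := Groth.Agent.S0800.result f 0 J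
  haveI : PreservesColimitsOfShape J (Coh.pushAb f) :=
    preservesColimitsOfShape_of_natIso (Coh.pushAb f).rightDerivedZeroIsoSelf
  let e : Scheme.Modules.pushforward f ⋙ CohFound.abF Y ≅ CohFound.abF X ⋙ Coh.pushAb f :=
    NatIso.ofComponents (fun M => CohFound.abFPushIso f M) fun φ => by
      apply CategoryTheory.Sheaf.hom_ext
      apply NatTrans.ext
      funext V
      rfl
  haveI : PreservesColimitsOfShape J (Scheme.Modules.pushforward f ⋙ CohFound.abF Y) :=
    preservesColimitsOfShape_of_natIso e.symm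
  haveI : ReflectsColimitsOfShape J (CohFound.abF Y) := reflectsColimitsOfShape_of_reflectsIsomorphisms
  exact preservesColimitsOfShape_of_reflects_of_preserves (Scheme.Modules.pushforward f) (CohFound.abF Y)

theorem isAcyclicObj_colimit {D : J ⥤ X.Modules} {c : Cocone D} (hc : IsColimit c)
    (h : ∀ j, RFPlus.IsAcyclicObj (Scheme.Modules.pushforward f) (D.obj j)) :
    RFPlus.IsAcyclicObj (Scheme.Modules.pushforward f) c.pt := by
  intro k hk
  haveI := Groth.Agent.S0800.result f k J
  have iso : ∀ M : X.Modules, Nonempty ((CohFound.abF Y).obj (((Scheme.Modules.pushforward f).rightDerived k).obj M) ≅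
      (Coh.RpushAb f k).obj ((CohFound.abF X).obj M)) := fun M => by
    obtain ⟨a⟩ := CohFound.nonempty_abF_rpush_iso_shPre f M k
    obtain ⟨b⟩ := CohFound.nonempty_rpush_iso_shPre (f.base : CohFound.sp X ⟶ CohFound.sp Y) ((CohFound.abF X).obj M) k
    exact ⟨a ≪≫ b.symm⟩
  have hc' := isColimitOfPreserves (CohFound.abF X ⋙ Coh.RpushAb f k) hc
  have hz : IsZero ((Coh.RpushAb f k).obj ((CohFound.abF X).obj c.pt)) := by
    rw [IsZero.iff_id_eq_zero]
    refine hc'.hom_ext fun j => ?_
    exact (((CohFound.abF Y).map_isZero (h j k hk)).of_iso (iso (D.obj j)).some.symm).eq_of_src _ _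
  rw [IsZero.iff_id_eq_zero]
  exact (CohFound.abF Y).map_injective ((hz.of_iso (iso c.pt).some).eq_of_src _ _)

variable [DCoh.HasRpush f]

/-- Direct image of complexes. -/
noncomputable abbrev pC : CochainComplex X.Modules ℤ ⥤ CochainComplex Y.Modules ℤ :=
  (Scheme.Modules.pushforward f).mapHomologicalComplex Cx

/-- Cohomology of the direct image of complexes. -/
noncomputable abbrev G₁ (i : ℤ) : CochainComplex X.Modules ℤ ⥤ Y.Modules :=
  pC f ⋙ HomologicalComplex.homologyFunctor Y.Modules Cx i

/-- Cohomology of the derived direct image. -/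
noncomputable abbrev G₂ (i : ℤ) : CochainComplex X.Modules ℤ ⥤ Y.Modules :=
  DerivedCategory.Q ⋙ DCoh.Rpush f ⋙ DerivedCategory.homologyFunctor Y.Modules i

/-- The comparison. -/
noncomputable def θ (i : ℤ) : G₁ f i ⟶ G₂ f i :=
  Functor.whiskerLeft (pC f) (DerivedCategory.homologyFunctorFactors Y.Modules i).inv ≫
    (Functor.associator _ _ _).inv ≫ Functor.whiskerRight (DPush9.βp f) (DerivedCategory.homologyFunctor Y.Modules i) ≫
    (Functor.associator _ _ _).hom

theorem isIso_θ {K : CochainComplex X.Modules ℤ} (h : IsIso ((DPush9.βp f).app K)) (i : ℤ) :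
    IsIso ((θ f i).app K) := by
  simp only [θ, NatTrans.comp_app, Functor.associator_hom_app, Functor.associator_inv_app, Category.id_comp,
    Category.comp_id, Functor.whiskerLeft_app, Functor.whiskerRight_app]
  infer_instance

theorem preserves_G₁ (i : ℤ) : PreservesColimitsOfShape J (G₁ f i) := by
  haveI := preservesColimitsOfShape_pushforward f (J := J)
  haveI : PreservesColimitsOfShape J (pC f) := HomologicalComplex.preservesColimitsOfShape_of_eval (pC f) fun k =>
    inferInstanceAs (PreservesColimitsOfShape J (HomologicalComplex.eval X.Modules Cx k ⋙ Scheme.Modules.pushforward f))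
  haveI := preservesColimitsOfShape_homology (A := Y.Modules) (J := J) Cx i
  infer_instance

/-- A colimit of a diagram computed termwise has `θ` as the induced map. -/
theorem isIso_θ_colimit {C : J ⥤ CochainComplex X.Modules ℤ} {c : Cocone C} (hc : IsColimit c) (i : ℤ)
    (h₂ : IsColimit ((G₂ f i).mapCocone c)) (hθ : ∀ j, IsIso ((θ f i).app (C.obj j))) :
    IsIso ((θ f i).app c.pt) := by
  haveI := preserves_G₁ f (J := J) i
  let α : C ⋙ G₁ f i ≅ C ⋙ G₂ f i :=
    NatIso.ofComponents (fun j => @asIso _ _ _ _ _ (hθ j)) fun g => (θ f i).naturality (C.map g)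
  have h₁ := isColimitOfPreserves (G₁ f i) hc
  have e : (θ f i).app c.pt = (h₁.coconePointsIsoOfNatIso h₂ α).hom := by
    refine h₁.hom_ext fun j => ?_
    rw [IsColimit.comp_coconePointsIsoOfNatIso_hom]
    exact (θ f i).naturality (c.ι.app j)
  rw [e]
  infer_instance

/-- Uniformly bounded below diagrams. -/
theorem isColimit_G₂ (C : J ⥤ CochainComplex X.Modules ℤ) {c : Cocone C} (hc : IsColimit c) (n : ℤ)
    (hC : ∀ j, (C.obj j).IsGE n) (i : ℤ) : Nonempty (IsColimit ((G₂ f i).mapCocone c)) := by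
  obtain ⟨I, φ, hφ, hI, hinj⟩ := exists_injective_diagram C n hC
  let d := colimit.cocone I
  have hd := colimit.isColimit I
  let m : c.pt ⟶ d.pt := hc.desc ((Cocone.precompose φ).obj d)
  have hm : ∀ j, c.ι.app j ≫ m = φ.app j ≫ d.ι.app j := fun j => hc.fac _ j
  haveI : QuasiIso m := ⟨fun k => by
    rw [quasiIsoAt_iff_isIso_homologyMap]
    haveI := preservesColimitsOfShape_homology (A := X.Modules) (J := J) Cx k
    let H := HomologicalComplex.homologyFunctor X.Modules Cx k
    let α : C ⋙ H ≅ I ⋙ H := NatIso.ofComponents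
      (fun j => haveI := hφ j; isoOfQuasiIsoAt (φ.app j) k) fun g => by
        simp only [isoOfQuasiIsoAt_hom]
        exact (H.map_comp _ _).symm.trans ((congrArg H.map (φ.naturality g)).trans (H.map_comp _ _))
    have h₁ := isColimitOfPreserves H hc
    have h₂ := isColimitOfPreserves H hd
    have e : H.map m = (h₁.coconePointsIsoOfNatIso h₂ α).hom := by
      refine h₁.hom_ext fun j => ?_
      rw [IsColimit.comp_coconePointsIsoOfNatIso_hom]
      exact (H.map_comp _ _).symm.trans ((congrArg H.map (hm j)).trans (H.map_comp _ _))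
    show IsIso (H.map m)
    rw [e]
    infer_instance⟩
  have hacj : ∀ j k, RFPlus.IsAcyclicObj (Scheme.Modules.pushforward f) ((I.obj j).X k) := fun j k =>
    haveI := hinj j k
    RFPlus.isAcyclicObj_injective _ _
  have hge : ∀ j, (I.obj j).IsStrictlyGE (n - 1 + 1) := fun j => by rw [sub_add_cancel]; exact hI j
  haveI : d.pt.IsStrictlyGE (n - 1 + 1) := by
    rw [sub_add_cancel, CochainComplex.isStrictlyGE_iff]
    intro k hk
    rw [IsZero.iff_id_eq_zero]
    refine (isColimitOfPreserves (HomologicalComplex.eval X.Modules Cx k) hd).hom_ext fun j => ?_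
    haveI := hI j
    exact ((I.obj j).isZero_of_isStrictlyGE n k hk).eq_of_src _ _
  have hθj : ∀ j, IsIso ((θ f i).app (I.obj j)) := fun j =>
    haveI := hge j
    isIso_θ f (AcyclicSum8.isIso_β_of_bounded _ _ _ _ (n - 1) (hacj j)) i
  haveI hθd : IsIso ((θ f i).app d.pt) := isIso_θ f (AcyclicSum8.isIso_β_of_bounded _ _ _ _ (n - 1) fun k =>
    isAcyclicObj_colimit f (isColimitOfPreserves (HomologicalComplex.eval X.Modules Cx k) hd) fun j => hacj j k) i
  haveI := preserves_G₁ f (J := J) i
  let αI : I ⋙ G₁ f i ≅ I ⋙ G₂ f i :=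
    NatIso.ofComponents (fun j => @asIso _ _ _ _ _ (hθj j)) fun g => (θ f i).naturality (I.map g)
  have hI₂ : IsColimit ((G₂ f i).mapCocone d) := IsColimit.ofIsoColimit
    ((IsColimit.precomposeInvEquiv αI _).symm (isColimitOfPreserves (G₁ f i) hd))
    (Cocone.ext (asIso ((θ f i).app d.pt)) fun j => by
      show (inv ((θ f i).app (I.obj j)) ≫ (G₁ f i).map (d.ι.app j)) ≫ (θ f i).app d.pt = (G₂ f i).map (d.ι.app j)
      rw [Category.assoc]
      exact (congrArg (inv ((θ f i).app (I.obj j)) ≫ ·) ((θ f i).naturality (d.ι.app j))).trans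
        (IsIso.inv_hom_id_assoc _ _))
  have hQ : ∀ {K L : CochainComplex X.Modules ℤ} (ψ : K ⟶ L), QuasiIso ψ → IsIso ((G₂ f i).map ψ) := fun ψ hψ => by
    haveI : IsIso (DerivedCategory.Q.map ψ) := (DerivedCategory.isIso_Q_map_iff_quasiIso _ ψ).2 hψ
    exact inferInstanceAs (IsIso ((DerivedCategory.homologyFunctor Y.Modules i).map
      ((DCoh.Rpush f).map (DerivedCategory.Q.map ψ))))
  let αC : C ⋙ G₂ f i ≅ I ⋙ G₂ f i :=
    NatIso.ofComponents (fun j => @asIso _ _ _ _ _ (hQ _ (hφ j)))
      fun g => ((G₂ f i).map_comp _ _).symm.trans ((congrArg (G₂ f i).map (φ.naturality g)).trans ((G₂ f i).map_comp _ _))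
  haveI := hQ m inferInstance
  refine ⟨IsColimit.ofIsoColimit ((IsColimit.precomposeHomEquiv αC _).symm hI₂)
    (Cocone.ext (asIso ((G₂ f i).map m)).symm fun j => ?_)⟩
  show ((G₂ f i).map (φ.app j) ≫ (G₂ f i).map (d.ι.app j)) ≫ inv ((G₂ f i).map m) = (G₂ f i).map (c.ι.app j)
  rw [IsIso.comp_inv_eq]
  exact ((G₂ f i).map_comp _ _).symm.trans ((congrArg (G₂ f i).map (hm j).symm).trans ((G₂ f i).map_comp _ _))

theorem isIso_unit_colimit (C : J ⥤ CochainComplex X.Modules ℤ) {c : Cocone C} (hc : IsColimit c) (n : ℤ)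
    (hC : ∀ j, (C.obj j).IsGE n)
    (hac : ∀ j, IsIso ((DPush.unit f).app ((HomotopyCategory.quotient X.Modules Cx).obj (C.obj j)))) :
    IsIso ((DPush.unit f).app ((HomotopyCategory.quotient X.Modules Cx).obj c.pt)) := by
  refine (AcyclicSum8.isIso_β_app_iff _ _ _ _).1 ((DerivedCategory.isIso_iff _ _).2 fun i => ?_)
  have h := isIso_θ_colimit f hc i (isColimit_G₂ f C hc n hC i).some fun j =>
    isIso_θ f ((AcyclicSum8.isIso_β_app_iff _ _ _ _).2 (hac j)) i
  simp only [θ, NatTrans.comp_app, Functor.associator_hom_app, Functor.associator_inv_app, Category.id_comp,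
    Category.comp_id, Functor.whiskerLeft_app, Functor.whiskerRight_app] at h
  haveI := h
  exact IsIso.of_isIso_comp_left ((DerivedCategory.homologyFunctorFactors Y.Modules i).inv.app ((pC f).obj c.pt)) _

end Groth.Agent.FiltPush9

namespace Groth.Agent.FiltPush9

attribute [local instance] HasDerivedCategory.standard

open Pretriangulated

variable {X Y : Scheme.{u}} (f : X ⟶ Y) [QuasiCompact f] [QuasiSeparated f] [DCoh.HasRpush f]
  {J : Type u} [SmallCategory J] [IsFiltered J]

local notation "Cx" => ComplexShape.up ℤ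

/-- Agreement of cohomology in high degrees gives agreement of a given local direct image. -/
theorem isIso_res_G₂ {V : Y.Opens} {d : ℕ}
    (hd : ∀ (E : DCoh.D X), DCoh.IsQCohD E → ∀ b : ℤ, E.IsLE b → ∀ m : ℤ, b + d ≤ m →
      IsZero ((DerivedCategory.homologyFunctor (V : Scheme.{u}).Modules m).obj
        ((DPerf.resD V.ι).obj ((DCoh.Rpush f).obj E))))
    {K L : CochainComplex X.Modules ℤ} (ψ : K ⟶ L) (hK : DCoh.IsQCohD (DCoh.toD X K))
    (hL : DCoh.IsQCohD (DCoh.toD X L)) (a i : ℤ) (ha : a + d + 1 ≤ i) (hψ : ∀ k, a ≤ k → QuasiIsoAt ψ k) :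
    IsIso ((Scheme.Modules.restrictFunctor V.ι).map ((G₂ f i).map ψ)) := by
  obtain ⟨Z, p, q, hT⟩ := distinguished_cocone_triangle (DerivedCategory.Q.map ψ)
  have hZq : DCoh.IsQCohD Z := DPush.isQCohD_obj₃ _ hT hK hL
  have hiso : ∀ k, a ≤ k → IsIso ((DerivedCategory.homologyFunctor X.Modules k).map (DerivedCategory.Q.map ψ)) :=
    fun k hk => (NatIso.isIso_map_iff (DerivedCategory.homologyFunctorFactors X.Modules k) ψ).2
      ((quasiIsoAt_iff_isIso_homologyMap _ _).1 (hψ k hk))
  haveI hZle : Z.IsLE a := (DerivedCategory.isLE_iff _ _).2 fun k hk => by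
    haveI := hiso k (by omega)
    haveI := hiso (k + 1) (by omega)
    exact DPerf.isZero_homology_of_dcond hT (s := Set.Ici k) (fun l hl => by
      have hl' : k ≤ l := hl
      exact ⟨@IsIso.epi_of_iso _ _ _ _ _ (hiso l (by omega)),
        @IsIso.mono_of_iso _ _ _ _ _ (hiso (l + 1) (by omega))⟩) (show k ∈ Set.Ici k from le_refl k)
  obtain ⟨_, _⟩ := DPush.exists_commShift_isTriangulated f
  have hT' := (DCoh.Rpush f).map_distinguished _ hT
  let R := Scheme.Modules.restrictFunctor V.ι
  haveI : PreservesFiniteLimits R := inferInstance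
  haveI : PreservesFiniteColimits R := inferInstance
  have hz : ∀ m, a + d ≤ m → IsZero (R.obj ((DerivedCategory.homologyFunctor Y.Modules m).obj ((DCoh.Rpush f).obj Z))) :=
    fun m hm => (hd _ hZq a hZle m hm).of_iso (DPerf.hdResIso V.ι _ m).symm
  haveI : Mono (R.map ((DerivedCategory.homologyFunctor Y.Modules i).map ((DCoh.Rpush f).map (DerivedCategory.Q.map ψ)))) :=
    ((DerivedCategory.HomologySequence.exact₁ _ hT' (i - 1) i (by omega)).map R).mono_g
      ((hz (i - 1) (by omega)).eq_of_src _ _)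
  haveI : Epi (R.map ((DerivedCategory.homologyFunctor Y.Modules i).map ((DCoh.Rpush f).map (DerivedCategory.Q.map ψ)))) :=
    ((DerivedCategory.HomologySequence.exact₂ _ hT' i).map R).epi_f ((hz i (by omega)).eq_of_tgt _ _)
  exact isIso_of_mono_of_epi (R.map ((DerivedCategory.homologyFunctor Y.Modules i).map ((DCoh.Rpush f).map (DerivedCategory.Q.map ψ))))

/-- Quasi-coherent cohomology. -/
theorem isColimit_G₂_qcoh (C : J ⥤ CochainComplex X.Modules ℤ) {c : Cocone C} (hc : IsColimit c)
    (hC : ∀ j, DCoh.IsQCohD (DCoh.toD X (C.obj j))) (i : ℤ) : Nonempty (IsColimit ((G₂ f i).mapCocone c)) := by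
  let D := C ⋙ G₂ f i
  let cm := (G₂ f i).mapCocone c
  suffices IsIso (colimit.desc D cm) from
    ⟨@IsColimit.ofPointIso _ _ _ _ _ _ cm (colimit.isColimit D) this⟩
  refine InjMod.isIso_of_restrict _ fun y => ?_
  obtain ⟨V₀, hV, hy, -⟩ := TopologicalSpace.Opens.isBasis_iff_nbhd.1 Y.isBasis_affineOpens (U := ⊤) (x := y) trivial
  let V : Y.Opens := V₀
  refine ⟨V, hy, ?_⟩
  let R := Scheme.Modules.restrictFunctor V.ι
  haveI := (Scheme.Modules.restrictAdjunction V.ι).leftAdjoint_preservesColimits
  obtain ⟨d, hd⟩ := DPush9.exists_bound_res f hV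
  let a := i - d - 1
  let e := ComplexShape.embeddingUpIntGE a
  let T := e.truncGEFunctor X.Modules
  let π : 𝟭 _ ⟶ T := e.πTruncGENatTrans X.Modules
  let C' := C ⋙ T
  let φ : C ⟶ C' := (Functor.rightUnitor C).inv ≫ Functor.whiskerLeft C π
  let c' := colimit.cocone C'
  have hc' := colimit.isColimit C'
  let m : c.pt ⟶ c'.pt := hc.desc ((Cocone.precompose φ).obj c')
  have hm : ∀ j, c.ι.app j ≫ m = φ.app j ≫ c'.ι.app j := fun j => hc.fac _ j
  have hφ : ∀ j k, a ≤ k → QuasiIsoAt (φ.app j) k := fun j k hk => by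
    have h₁ : φ.app j = CochainComplex.πTruncGE (C.obj j : CochainComplex X.Modules ℤ) a := Category.id_comp _
    rw [h₁]
    exact CochainComplex.quasiIsoAt_πTruncGE (C.obj j) a k hk
  have hge : ∀ j, CochainComplex.IsGE (C'.obj j) a := fun j =>
    inferInstanceAs ((CochainComplex.truncGE (C.obj j : CochainComplex X.Modules ℤ) a).IsGE a)
  have hqm : ∀ {K : CochainComplex X.Modules ℤ}, (∀ k, Coh.IsQCoh (K.homology k)) → DCoh.IsQCohD (DCoh.toD X K) :=
    fun {K} h k => M1.isQCoh_of_isIso ((DerivedCategory.homologyFunctorFactors X.Modules k).app K).symm (h k)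
  have hqh : ∀ j k, Coh.IsQCoh ((C.obj j).homology k) := fun j k =>
    M1.isQCoh_of_isIso ((DerivedCategory.homologyFunctorFactors X.Modules k).app (C.obj j)) (hC j k)
  have hqh' : ∀ j k, Coh.IsQCoh ((C'.obj j).homology k) := fun j k => by
    by_cases hk : a ≤ k
    · haveI := hφ j k hk
      exact M1.isQCoh_of_isIso (isoOfQuasiIsoAt (φ.app j) k) (hqh j k)
    · exact DPush.isQCoh_of_isZero (((CochainComplex.isGE_iff _ a).1 (hge j)) k (by omega)).isZero_homology
  have hcolim : ∀ {C₀ : J ⥤ CochainComplex X.Modules ℤ} {c₀ : Cocone C₀}, IsColimit c₀ →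
      (∀ j k, Coh.IsQCoh ((C₀.obj j).homology k)) → ∀ k, Coh.IsQCoh (c₀.pt.homology k) :=
    fun {C₀ c₀} h₀ hq k => by
      haveI := preservesColimitsOfShape_homology (A := X.Modules) (J := J) Cx k
      exact M1.isQCoh_of_isColimit (F := C₀ ⋙ HomologicalComplex.homologyFunctor X.Modules Cx k) (fun j => hq j k)
        (isColimitOfPreserves (HomologicalComplex.homologyFunctor X.Modules Cx k) h₀)
  have hmq : ∀ k, a ≤ k → QuasiIsoAt m k := fun k hk => by
    rw [quasiIsoAt_iff_isIso_homologyMap]
    haveI := preservesColimitsOfShape_homology (A := X.Modules) (J := J) Cx k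
    let H := HomologicalComplex.homologyFunctor X.Modules Cx k
    let α : C ⋙ H ≅ C' ⋙ H := NatIso.ofComponents
      (fun j => haveI := hφ j k hk; isoOfQuasiIsoAt (φ.app j) k) fun g => by
        simp only [isoOfQuasiIsoAt_hom]
        exact (H.map_comp _ _).symm.trans ((congrArg H.map (φ.naturality g)).trans (H.map_comp _ _))
    have h₁ := isColimitOfPreserves H hc
    have h₂ := isColimitOfPreserves H hc'
    have e' : H.map m = (h₁.coconePointsIsoOfNatIso h₂ α).hom := by
      refine h₁.hom_ext fun j => ?_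
      rw [IsColimit.comp_coconePointsIsoOfNatIso_hom]
      exact (H.map_comp _ _).symm.trans ((congrArg H.map (hm j)).trans (H.map_comp _ _))
    show IsIso (H.map m)
    rw [e']
    infer_instance
  let G := G₂ f i ⋙ R
  obtain ⟨hG'⟩ : Nonempty (IsColimit (G.mapCocone c')) :=
    ⟨isColimitOfPreserves R (isColimit_G₂ f C' hc' a hge i).some⟩
  let αC : C ⋙ G ≅ C' ⋙ G := NatIso.ofComponents (fun j => @asIso _ _ _ _ _
      (isIso_res_G₂ f hd (φ.app j) (hC j) (hqm (hqh' j)) a i (by omega) (hφ j)))
    fun g => (G.map_comp _ _).symm.trans ((congrArg G.map (φ.naturality g)).trans (G.map_comp _ _))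
  haveI : IsIso (G.map m) :=
    isIso_res_G₂ f hd m (hqm (hcolim hc hqh)) (hqm (hcolim hc' hqh')) a i (by omega) hmq
  have hG : IsColimit (G.mapCocone c) := IsColimit.ofIsoColimit
    ((IsColimit.precomposeHomEquiv αC _).symm hG')
    (Cocone.ext (asIso (G.map m)).symm fun j => by
      show (G.map (φ.app j) ≫ G.map (c'.ι.app j)) ≫ inv (G.map m) = G.map (c.ι.app j)
      rw [IsIso.comp_inv_eq]
      exact (G.map_comp _ _).symm.trans ((congrArg G.map (hm j).symm).trans (G.map_comp _ _)))
  have hD := isColimitOfPreserves R (colimit.isColimit D)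
  have e' : R.map (colimit.desc D cm) = (hD.coconePointUniqueUpToIso hG).hom := by
    refine hD.hom_ext fun j => ?_
    refine Eq.trans ?_ (hD.comp_coconePointUniqueUpToIso_hom hG j).symm
    exact (R.map_comp _ _).symm.trans (congrArg R.map (colimit.ι_desc cm j))
  show IsIso (R.map (colimit.desc D cm))
  rw [e']
  infer_instance

end Groth.Agent.FiltPush9
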